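import Mathlib
import Cfsg.Prelude.Def_GeometricClasses
import Cfsg.Prelude.Def_LieTypeDatum

set_option autoImplicit false

/-!
# Two explicit matrices for the graph automorphisms of `PSL_{2m}` in characteristic two (helper43)

Definitions shared by the pieces of CALL S2701.
-/

namespace Cfsg.Agent.Helper43.GraphEven

open Matrix

/-- the symmetric (in characteristic two) non-alternating matrix `J + E_{(inr i₀),(inr i₀)}` -/
def nMat {m : ℕ} (F : Type*) [Field F] (i₀ : Fin m) :
    Matrix (Fin m ⊕ Fin m) (Fin m ⊕ Fin m) F :=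
  Matrix.J (Fin m) F + Matrix.of fun i j => if i = Sum.inr i₀ ∧ j = Sum.inr i₀ then (1 : F) else 0

/-- the symplectic transvection `1 + E_{(inl i₀),(inr i₀)}` -/
def tMat {m : ℕ} (F : Type*) [Field F] (i₀ : Fin m) :
    Matrix (Fin m ⊕ Fin m) (Fin m ⊕ Fin m) F :=
  1 + Matrix.of fun i j => if i = Sum.inl i₀ ∧ j = Sum.inr i₀ then (1 : F) else 0

end Cfsg.Agent.Helper43.GraphEven
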