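/-
Helper43 library: orthonormal bases for non-degenerate Hermitian forms over a field with
`q ^ 2` elements; every invertible Hermitian matrix `Y` is congruent to `1`:
`hadj P * Y * P = 1` for some `P`.
-/
import Cfsg.Agent.Helper43.HermAdj

set_option autoImplicit false
set_option linter.unusedSectionVars false

namespace Cfsg.Agent.Helper43
namespace HermOrtho

open Matrix NormH90 HermAdj Module

section Abstract

variable {K : Type*} [Field K] [Fintype K] {q : ℕ} (hK : Fintype.card K = q ^ 2)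
  {V : Type*} [AddCommGroup V] [Module K V]
  (h : V → V → K) (hadd : ∀ u u' v, h (u + u') v = h u v + h u' v)
  (hsmul : ∀ (a : K) u v, h (a • u) v = a * h u v) (hherm : ∀ u v, h v u = (h u v) ^ q)

include hK hadd hherm in
theorem herm_add_right (u v v' : V) : h u (v + v') = h u v + h u v' := by
  rw [hherm (v + v') u, hadd, add_pow_q hK, ← hherm, ← hherm]

include hsmul hherm in
theorem herm_smul_right (a : K) (u v : V) : h u (a • v) = a ^ q * h u v := by
  rw [hherm (a • v) u, hsmul, mul_pow, ← hherm]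

theorem herm_finrank_sup_span [FiniteDimensional K V] {W : Submodule K V} {x : V} (hx : x ∉ W) :
    finrank K ↥(W ⊔ Submodule.span K {x}) = finrank K W + 1 := by
  have h1 := Submodule.finrank_sup_add_finrank_inf_eq W (Submodule.span K {x})
  have hx0 : x ≠ 0 := fun h0 => hx (h0 ▸ W.zero_mem)
  have h2 : W ⊓ Submodule.span K {x} = ⊥ := by
    rw [← disjoint_iff, Submodule.disjoint_span_singleton]
    intro hxW
    exact absurd hxW hx
  rw [h2, finrank_bot, finrank_span_singleton hx0] at h1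
  omega

include hK hadd hsmul hherm in
theorem exists_nonisotropic (W : Submodule K V) (hW : W ≠ ⊥)
    (hnd : ∀ w ∈ W, w ≠ 0 → ∃ x ∈ W, h w x ≠ 0) : ∃ v ∈ W, h v v ≠ 0 := by
  by_contra hcon
  have hcon' : ∀ v ∈ W, h v v = 0 := by
    intro v hv
    by_contra h0
    exact hcon ⟨v, hv, h0⟩
  obtain ⟨w, hwW, hw0⟩ := Submodule.exists_mem_ne_zero_of_ne_bot hW
  obtain ⟨x, hxW, hwx⟩ := hnd w hwW hw0
  obtain ⟨t, ht⟩ := exists_trace_one hK
  have key := hcon' ((t / h w x) • w + x) (W.add_mem (W.smul_mem _ hwW) hxW)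
  rw [hadd, herm_add_right hK h hadd hherm, herm_add_right hK h hadd hherm, hsmul, hsmul,
    herm_smul_right h hsmul hherm, herm_smul_right h hsmul hherm, hcon' w hwW, hcon' x hxW,
    hherm w x] at key
  simp only [mul_zero, zero_add, add_zero] at key
  rw [← mul_pow, div_mul_cancel₀ t hwx, ht] at key
  exact one_ne_zero key

include hK hadd hsmul hherm in
theorem exists_unit_vector (W : Submodule K V) (hW : W ≠ ⊥)
    (hnd : ∀ w ∈ W, w ≠ 0 → ∃ x ∈ W, h w x ≠ 0) : ∃ v ∈ W, h v v = 1 := by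
  obtain ⟨v, hvW, hv⟩ := exists_nonisotropic hK h hadd hsmul hherm W hW hnd
  have hd : (h v v) ^ q = h v v := (hherm v v).symm
  obtain ⟨φ, hφ⟩ := exists_frobQ hK
  obtain ⟨c, hc⟩ := norm_surj (S := K) hK φ (fun s => by rw [hφ, hφ, pow_q_q hK])
    (fun a => by rw [Algebra.algebraMap_self, RingHom.id_apply, RingHom.id_apply, hφ])
    (Units.mk0 _ hv) (by rw [Units.val_mk0, hφ, hd])
  rw [Units.val_mk0, hφ] at hc
  refine ⟨(c : K)⁻¹ • v, W.smul_mem _ hvW, ?_⟩
  rw [hsmul, herm_smul_right h hsmul hherm, ← hc, inv_pow]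
  have hc0 : (c : K) ≠ 0 := c.ne_zero
  have hcq : (c : K) ^ q ≠ 0 := pow_ne_zero _ hc0
  field_simp

include hK hadd hsmul hherm in
/-- orthonormal families of full size in non-degenerate subspaces -/
theorem exists_orthonormal [FiniteDimensional K V] : ∀ (n : ℕ) (W : Submodule K V),
    finrank K W = n → (∀ w ∈ W, w ≠ 0 → ∃ x ∈ W, h w x ≠ 0) →
    ∃ b : Fin n → V, (∀ i, b i ∈ W) ∧ ∀ i j, h (b i) (b j) = if i = j then 1 else 0 := by
  intro n
  induction n with
  | zero => intro W _ _; exact ⟨Fin.elim0, fun i => i.elim0, fun i => i.elim0⟩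
  | succ n ih =>
    intro W hW hnd
    have hq : q ≠ 0 := by have := two_le_q hK; omega
    have hWbot : W ≠ ⊥ := by
      rintro rfl
      rw [finrank_bot] at hW; omega
    obtain ⟨v, hvW, hv1⟩ := exists_unit_vector hK h hadd hsmul hherm W hWbot hnd
    obtain ⟨ℓ, hℓ⟩ : ∃ ℓ : V →ₗ[K] K, ∀ w, ℓ w = h w v :=
      ⟨{ toFun := fun w => h w v, map_add' := fun x y => hadd x y v,
         map_smul' := fun a x => by simp [hsmul] }, fun w => rfl⟩
    have hproj : ∀ x : V, h (x - h x v • v) v = 0 := by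
      intro x
      have := hadd (x - h x v • v) (h x v • v) v
      rw [sub_add_cancel, hsmul, hv1, mul_one] at this
      exact right_eq_add.1 this
    obtain ⟨W', hW'⟩ : ∃ W' : Submodule K V, W' = W ⊓ LinearMap.ker ℓ := ⟨_, rfl⟩
    have hmem : ∀ w, w ∈ W' ↔ w ∈ W ∧ h w v = 0 := by
      intro w
      rw [hW', Submodule.mem_inf, LinearMap.mem_ker, hℓ]
    have hvW' : v ∉ W' := fun hv => by
      have := ((hmem v).1 hv).2
      rw [hv1] at this; exact one_ne_zero this
    have hsup : W' ⊔ Submodule.span K {v} = W := by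
      apply le_antisymm
      · refine sup_le ?_ ((Submodule.span_singleton_le_iff_mem _ _).2 hvW)
        intro w hw; exact ((hmem w).1 hw).1
      · intro w hw
        have hdec : w = (w - h w v • v) + h w v • v := by abel
        rw [hdec]
        exact Submodule.add_mem_sup ((hmem _).2 ⟨W.sub_mem hw (W.smul_mem _ hvW), hproj w⟩)
          (Submodule.smul_mem _ _ (Submodule.mem_span_singleton_self v))
    have hfr : finrank K W' = n := by
      have := herm_finrank_sup_span hvW'
      rw [hsup, hW] at this; omega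
    have hnd' : ∀ w ∈ W', w ≠ 0 → ∃ x ∈ W', h w x ≠ 0 := by
      intro w hw hw0
      obtain ⟨x, hxW, hx⟩ := hnd w ((hmem w).1 hw).1 hw0
      have hwv : h w v = 0 := ((hmem w).1 hw).2
      refine ⟨x - h x v • v, (hmem _).2 ⟨W.sub_mem hxW (W.smul_mem _ hvW), hproj x⟩, ?_⟩
      have := herm_add_right hK h hadd hherm w (x - h x v • v) (h x v • v)
      rw [sub_add_cancel, herm_smul_right h hsmul hherm, hwv, mul_zero, add_zero] at this
      rw [← this]; exact hx
    obtain ⟨b', hb'W, hb'⟩ := ih W' hfr hnd'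
    refine ⟨Fin.cons v b', ?_, ?_⟩
    · intro i
      refine Fin.cases ?_ (fun j => ?_) i
      · rw [Fin.cons_zero]; exact hvW
      · rw [Fin.cons_succ]; exact ((hmem _).1 (hb'W j)).1
    · intro i j
      refine Fin.cases ?_ (fun i' => ?_) i <;> refine Fin.cases ?_ (fun j' => ?_) j
      · rw [Fin.cons_zero, hv1, if_pos rfl]
      · have h0 : h (b' j') v = 0 := ((hmem _).1 (hb'W j')).2
        rw [Fin.cons_zero, Fin.cons_succ, hherm (b' j') v, h0, zero_pow hq,
          if_neg (Fin.succ_ne_zero j').symm]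
      · have h0 : h (b' i') v = 0 := ((hmem _).1 (hb'W i')).2
        rw [Fin.cons_zero, Fin.cons_succ, h0, if_neg (Fin.succ_ne_zero i')]
      · rw [Fin.cons_succ, Fin.cons_succ, hb']
        simp only [Fin.succ_inj]

end Abstract

section Mat

variable {K : Type*} [Field K] [Fintype K] {q : ℕ} {n : ℕ}

/-- an invertible Hermitian matrix is congruent to the identity -/
theorem exists_hadj_mul (hK : Fintype.card K = q ^ 2) (Y : Matrix (Fin n) (Fin n) K)
    (hY : hadj q Y = Y) (hYu : IsUnit Y) :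
    ∃ P : Matrix (Fin n) (Fin n) K, hadj q P * Y * P = 1 := by
  obtain ⟨φ, hφ⟩ := exists_frobQ hK
  obtain ⟨h, hh⟩ : ∃ h : (Fin n → K) → (Fin n → K) → K,
      ∀ u v, h u v = (φ ∘ v) ⬝ᵥ (Y *ᵥ u) := ⟨_, fun u v => rfl⟩
  have hadd : ∀ u u' v, h (u + u') v = h u v + h u' v := fun u u' v => by
    rw [hh, hh, hh, mulVec_add, dotProduct_add]
  have hsmul : ∀ (a : K) u v, h (a • u) v = a * h u v := fun a u v => by
    rw [hh, hh, mulVec_smul, dotProduct_smul, smul_eq_mul]
  have hφφ : ∀ v : Fin n → K, φ ∘ (φ ∘ v) = v := by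
    intro v; funext i
    rw [Function.comp_apply, Function.comp_apply, hφ, hφ, pow_q_q hK]
  have hYφ : (Y.map φ)ᵀ = Y := by rw [← hadj_eq_map hφ, hY]
  have hherm : ∀ u v, h v u = (h u v) ^ q := by
    intro u v
    have h1 : φ ∘ (Y *ᵥ u) = Y.map φ *ᵥ (φ ∘ u) := by
      funext i
      rw [Function.comp_apply, RingHom.map_mulVec]
    have hYφ' : Yᵀ = Y.map φ := by
      have := congrArg transpose hYφ
      rw [transpose_transpose] at this
      exact this.symm
    rw [← hφ, hh, hh, RingHom.map_dotProduct, hφφ, h1, dotProduct_mulVec, ← mulVec_transpose,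
      hYφ', dotProduct_comm]
  have hsingle : ∀ k : Fin n, (φ ∘ (Pi.single k 1 : Fin n → K)) = Pi.single k 1 := by
    intro k
    funext i
    rw [Function.comp_apply]
    by_cases hik : i = k
    · subst hik; rw [Pi.single_eq_same, map_one]
    · rw [Pi.single_eq_of_ne hik, map_zero]
  have hnd : ∀ w ∈ (⊤ : Submodule K (Fin n → K)), w ≠ 0 →
      ∃ x ∈ (⊤ : Submodule K (Fin n → K)), h w x ≠ 0 := by
    intro w _ hw0
    have hYw : Y *ᵥ w ≠ 0 := by
      intro h0
      obtain ⟨Yu, rfl⟩ := hYu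
      apply hw0
      have h1 : ((Yu⁻¹ : (Matrix (Fin n) (Fin n) K)ˣ) : Matrix (Fin n) (Fin n) K) *ᵥ
          ((Yu : Matrix (Fin n) (Fin n) K) *ᵥ w) = w := by
        rw [mulVec_mulVec, Units.inv_mul, one_mulVec]
      rw [← h1, h0, mulVec_zero]
    obtain ⟨k, hk⟩ := Function.ne_iff.1 hYw
    refine ⟨Pi.single k 1, Submodule.mem_top, ?_⟩
    rw [hh, hsingle, single_one_dotProduct]
    exact hk
  obtain ⟨b, -, hb⟩ := exists_orthonormal hK h hadd hsmul hherm n ⊤
    (by rw [finrank_top, Module.finrank_fin_fun]) hnd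
  refine ⟨Matrix.of fun k i => b i k, ?_⟩
  ext i j
  have h1 : (hadj q (Matrix.of fun k i => b i k) * Y * (Matrix.of fun k i => b i k)) i j =
      h (b j) (b i) := by
    rw [hh, mul_assoc, mul_apply]
    unfold dotProduct
    refine Finset.sum_congr rfl fun k _ => ?_
    rw [hadj_apply, Function.comp_apply, hφ]
    rfl
  rw [h1, hb, one_apply]
  by_cases hij : i = j
  · subst hij; rw [if_pos rfl]
  · rw [if_neg hij, if_neg (Ne.symm hij)]

end Mat

end HermOrtho
end Cfsg.Agent.Helper43
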