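import Mathlib
import Cfsg.Prelude.Def_GeometricClasses
import Cfsg.Prelude.Def_Classical
import Cfsg.Agent.Helper35.S88Defs
import Cfsg.Agent.Helper97.S74T2G

set_option autoImplicit false

/-!
# Sub-CALL S90T2 (helper98), pieces BLOCK + PROFILE (helper43): verbatim statements of
`tools/calls/S90T2Skel.lean.txt`, from helper97's `Cfsg.Agent.Helper97.S74.t2_block` /
`t2_profile` (Helper97/S74T2G.lean), which are generic in the type of the ambient form.
-/

namespace Cfsg.Agent.Helper43.S90T2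

open Module Matrix Cfsg Cfsg.Geo Cfsg.Agent.Helper35.S88
open scoped MatrixGroups

variable {ι : Type} [Fintype ι] [DecidableEq ι] {F : Type*} [Field F]

/-- BLOCK. -/
theorem t2_block [Fintype F] (Q : (ι → F) → F) (hQ : IsNondegenerateQuadraticForm Q)
    (h2 : (2 : F) = 0) (T : Module.End F (ι → F)) (hT : ∀ v, Q (T v) = Q v) (hT2 : T * T = 1)
    (U : Submodule F (ι → F)) (hU : IsNondegenerateOn (QuadraticMap.polar Q) U)
    (hUT : U.map T ≤ U) (hU0 : U ≠ ⊥) :
    ∃ B : Submodule F (ι → F), B ≤ U ∧ B.map T ≤ B ∧ IsNondegenerateOn (QuadraticMap.polar Q) B ∧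
      (finrank F B = 2 ∨ (finrank F B = 4 ∧ IsPlusTypeOn Q B)) := by
  have hTT : ∀ v, T (T v) = v := fun v => by
    have h := congrArg (fun f : Module.End F (ι → F) => f v) hT2
    exact h
  exact Cfsg.Agent.Helper97.S74.t2_block Q hQ h2 T hT hTT U hUT hU hU0

/-- PROFILE. -/
theorem t2_profile [Fintype F] (Q : (ι → F) → F) (hQ : IsNondegenerateQuadraticForm Q)
    (h2 : (2 : F) = 0) (T : Module.End F (ι → F)) (hT : ∀ v, Q (T v) = Q v) (hT2 : T * T = 1)
    (U : Submodule F (ι → F)) (hU : IsNondegenerateOn (QuadraticMap.polar Q) U)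
    (hUT : U.map T ≤ U) :
    ∃ A h e : ℕ, finrank F U = 2 * (2 * A + h + e) ∧ ∀ a' h' e', a' ≤ A → h' ≤ h → e' ≤ e →
      ∃ W : Submodule F (ι → F), W ≤ U ∧ W.map T ≤ W ∧
        IsNondegenerateOn (QuadraticMap.polar Q) W ∧
        finrank F W = 2 * (2 * a' + h' + e') ∧ (IsPlusTypeOn Q W ↔ Even e') := by
  have hTT : ∀ v, T (T v) = v := fun v => by
    have h := congrArg (fun f : Module.End F (ι → F) => f v) hT2
    exact h
  obtain ⟨A, h, e, hdim, hall⟩ :=
    Cfsg.Agent.Helper97.S74.t2_profile Q hQ h2 T hT hTT (finrank F U) U rfl hUT hU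
  exact ⟨A, h, e, hdim, fun a' h' e' ha hh he => hall a' ha h' hh e' he⟩

end Cfsg.Agent.Helper43.S90T2
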