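import Mathlib

set_option autoImplicit false
set_option maxHeartbeats 1000000

/-! CALL SL2L (helper2), piece G4 (double by helper43): a group of prime order `s ∣ p - 1`, `s ≠ 2`,
acting by conjugation on the `p + 1` lines fixes one of them. -/

namespace Cfsg.Agent.Helper43

open Subgroup

universe u

variable {Γ : Type u} [Group Γ] [Finite Γ]

theorem sl2l_fixed_line {p s : ℕ} (hp : p.Prime) (hs : s.Prime) (hs2 : s ≠ 2) (hsp : s ∣ p - 1)
    {P Z : Subgroup Γ}
    (hlines : Nat.card {L : Subgroup Γ // Z ≤ L ∧ L ≤ P ∧ Nat.card L = p ^ 2} = p + 1)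
    {k : Γ} (hks : orderOf k = s) (hkP : ∀ a ∈ P, k * a * k⁻¹ ∈ P)
    (hkZ : ∀ z ∈ Z, k * z = z * k) :
    ∃ L : Subgroup Γ, Z ≤ L ∧ L ≤ P ∧ Nat.card L = p ^ 2 ∧ ∀ a ∈ L, k * a * k⁻¹ ∈ L := by
  classical
  -- k normalizes P
  have hkN : k ∈ Subgroup.normalizer (P : Set Γ) := by
    rw [Subgroup.mem_set_normalizer_iff]
    intro h
    refine ⟨fun hh => hkP h hh, fun hh => ?_⟩
    let f : P → P := fun a => ⟨k * a.1 * k⁻¹, hkP a.1 a.2⟩
    have hinj : Function.Injective f := by
      intro a b hab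
      have h1 : k * a.1 * k⁻¹ = k * b.1 * k⁻¹ := congrArg Subtype.val hab
      apply Subtype.ext
      have h2 : a.1 = k⁻¹ * (k * a.1 * k⁻¹) * k := by group
      rw [h2, h1]; group
    have hsurj : Function.Surjective f := Finite.surjective_of_injective hinj
    obtain ⟨a, ha⟩ := hsurj ⟨k * h * k⁻¹, hh⟩
    have h1 : k * a.1 * k⁻¹ = k * h * k⁻¹ := congrArg Subtype.val ha
    have h2 : a.1 = h := by
      have h3 : a.1 = k⁻¹ * (k * a.1 * k⁻¹) * k := by group
      rw [h3, h1]; group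
    rw [← h2]; exact a.2
  have hKN : Subgroup.zpowers k ≤ Subgroup.normalizer (P : Set Γ) := (Subgroup.zpowers_le).mpr hkN
  have hkC : k ∈ Subgroup.centralizer (Z : Set Γ) := by
    rw [Subgroup.mem_centralizer_iff]
    intro z hz
    exact (hkZ z hz).symm
  have hKC : Subgroup.zpowers k ≤ Subgroup.centralizer (Z : Set Γ) := (Subgroup.zpowers_le).mpr hkC
  have hgP : ∀ g ∈ Subgroup.zpowers k, ∀ a ∈ P, g * a * g⁻¹ ∈ P := fun g hg a ha =>
    ((Subgroup.mem_set_normalizer_iff.mp (hKN hg)) a).mp ha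
  have hgZ : ∀ g ∈ Subgroup.zpowers k, ∀ z ∈ Z, g * z * g⁻¹ = z := fun g hg z hz => by
    have h1 := (Subgroup.mem_centralizer_iff.mp (hKC hg)) z hz
    rw [← h1]; group
  -- the action
  let X := {L : Subgroup Γ // Z ≤ L ∧ L ≤ P ∧ Nat.card L = p ^ 2}
  let act : Subgroup.zpowers k → X → X := fun g L =>
    ⟨L.1.map (MulAut.conj (g : Γ)).toMonoidHom, by
      refine ⟨?_, ?_, ?_⟩
      · intro z hz
        exact Subgroup.mem_map.mpr ⟨z, L.2.1 hz, by
          simpa [MulAut.conj_apply] using hgZ g.1 g.2 z hz⟩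
      · intro w hw
        obtain ⟨a, ha, rfl⟩ := Subgroup.mem_map.mp hw
        simpa [MulAut.conj_apply] using hgP g.1 g.2 a (L.2.2.1 ha)
      · exact (Nat.card_congr
          (L.1.equivMapOfInjective _ (MulAut.conj (g : Γ)).injective).symm.toEquiv).trans L.2.2.2⟩
  letI inst : MulAction (Subgroup.zpowers k) X :=
    { smul := act
      one_smul := by
        intro L
        apply Subtype.ext
        show L.1.map (MulAut.conj ((1 : Subgroup.zpowers k) : Γ)).toMonoidHom = L.1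
        ext w
        simp [Subgroup.mem_map, MulAut.conj_apply]
      mul_smul := by
        intro g h L
        apply Subtype.ext
        show L.1.map (MulAut.conj ((g * h : Subgroup.zpowers k) : Γ)).toMonoidHom =
          (L.1.map (MulAut.conj (h : Γ)).toMonoidHom).map (MulAut.conj (g : Γ)).toMonoidHom
        rw [Subgroup.map_map]
        congr 1
        ext w
        simp [MulAut.conj_apply, mul_assoc] }
  haveI : Fact s.Prime := ⟨hs⟩
  have hpg : IsPGroup s (Subgroup.zpowers k) := by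
    apply IsPGroup.of_card (n := 1)
    rw [Nat.card_zpowers, hks, pow_one]
  have hnd : ¬ s ∣ Nat.card X := by
    show ¬ s ∣ Nat.card {L : Subgroup Γ // Z ≤ L ∧ L ≤ P ∧ Nat.card L = p ^ 2}
    rw [hlines]
    intro h
    have h2 : s ∣ (p + 1) - (p - 1) := Nat.dvd_sub h hsp
    have h3 : (p + 1) - (p - 1) = 2 := by have := hp.one_lt; omega
    rw [h3] at h2
    exact hs2 ((Nat.prime_dvd_prime_iff_eq hs Nat.prime_two).mp h2)
  haveI : Finite X := by
    apply Nat.finite_of_card_ne_zero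
    show Nat.card {L : Subgroup Γ // Z ≤ L ∧ L ≤ P ∧ Nat.card L = p ^ 2} ≠ 0
    rw [hlines]; omega
  obtain ⟨L, hL⟩ := hpg.nonempty_fixed_point_of_prime_not_dvd_card X hnd
  refine ⟨L.1, L.2.1, L.2.2.1, L.2.2.2, ?_⟩
  intro a ha
  have h1 : (⟨k, Subgroup.mem_zpowers k⟩ : Subgroup.zpowers k) • L = L := hL _
  have h2 : L.1.map (MulAut.conj k).toMonoidHom = L.1 := congrArg Subtype.val h1
  rw [← h2]
  exact Subgroup.mem_map.mpr ⟨a, ha, by simp [MulAut.conj_apply]⟩

end Cfsg.Agent.Helper43
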