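/-
Helper43 library: the Hermitian form `Cfsg.hermForm n F q` over a field with `q ^ 2` elements
(sesquilinearity, symmetry, non-degeneracy), rank one operators `x ↦ h(x, b) a`, and the
Heisenberg-type unipotent unitary elements
`u(a, b) : x ↦ x + a h(x, z) v - a^q h(x, v) z + b h(x, v) v`
attached to an isotropic vector `v` and a unit vector `z` orthogonal to it:
multiplication law, determinant one, unitarity.
-/
import Cfsg.Agent.Helper43.HermOrtho
import Cfsg.Prelude.Def_ClassicalGeometry

set_option autoImplicit false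
set_option linter.unusedSectionVars false

namespace Cfsg.Agent.Helper43
namespace UnitaryHeis

open Matrix NormH90 HermAdj HermOrtho

variable {F : Type*} [Field F] [Fintype F] {q n : ℕ}

theorem herm_add_left (u u' v : Fin n → F) :
    Cfsg.hermForm n F q (u + u') v = Cfsg.hermForm n F q u v + Cfsg.hermForm n F q u' v := by
  unfold Cfsg.hermForm
  rw [← Finset.sum_add_distrib]
  refine Finset.sum_congr rfl fun i _ => ?_
  rw [Pi.add_apply, add_mul]

theorem herm_smul_left (a : F) (u v : Fin n → F) :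
    Cfsg.hermForm n F q (a • u) v = a * Cfsg.hermForm n F q u v := by
  unfold Cfsg.hermForm
  rw [Finset.mul_sum]
  refine Finset.sum_congr rfl fun i _ => ?_
  rw [Pi.smul_apply, smul_eq_mul, mul_assoc]

theorem herm_symm (hF : Fintype.card F = q ^ 2) (u v : Fin n → F) :
    Cfsg.hermForm n F q v u = (Cfsg.hermForm n F q u v) ^ q := by
  obtain ⟨φ, hφ⟩ := exists_frobQ hF
  rw [← hφ]
  unfold Cfsg.hermForm
  rw [map_sum]
  refine Finset.sum_congr rfl fun i _ => ?_
  rw [map_mul, hφ, hφ, pow_q_q hF, mul_comm]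

theorem herm_add_right (hF : Fintype.card F = q ^ 2) (u v v' : Fin n → F) :
    Cfsg.hermForm n F q u (v + v') = Cfsg.hermForm n F q u v + Cfsg.hermForm n F q u v' :=
  HermOrtho.herm_add_right hF (Cfsg.hermForm n F q) herm_add_left (herm_symm hF) u v v'

theorem herm_smul_right (hF : Fintype.card F = q ^ 2) (a : F) (u v : Fin n → F) :
    Cfsg.hermForm n F q u (a • v) = a ^ q * Cfsg.hermForm n F q u v :=
  HermOrtho.herm_smul_right (Cfsg.hermForm n F q) herm_smul_left (herm_symm hF) a u v

theorem herm_zero_left (v : Fin n → F) : Cfsg.hermForm n F q 0 v = 0 := by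
  have := herm_smul_left (q := q) (0 : F) (0 : Fin n → F) v
  rwa [zero_smul, zero_mul] at this

theorem herm_neg_left (u v : Fin n → F) :
    Cfsg.hermForm n F q (-u) v = -Cfsg.hermForm n F q u v := by
  have := herm_smul_left (q := q) (-1 : F) u v
  rwa [neg_one_smul, neg_one_mul] at this

theorem herm_sub_left (u u' v : Fin n → F) :
    Cfsg.hermForm n F q (u - u') v = Cfsg.hermForm n F q u v - Cfsg.hermForm n F q u' v := by
  rw [sub_eq_add_neg, herm_add_left, herm_neg_left, ← sub_eq_add_neg]

theorem herm_nondeg (hq : q ≠ 0) (x : Fin n → F) (hx : x ≠ 0) :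
    ∃ y : Fin n → F, Cfsg.hermForm n F q x y ≠ 0 := by
  obtain ⟨i, hi⟩ := Function.ne_iff.1 hx
  refine ⟨Pi.single i 1, ?_⟩
  unfold Cfsg.hermForm
  rw [Finset.sum_eq_single i]
  · rw [Pi.single_eq_same, one_pow, mul_one]; exact hi
  · intro j _ hji
    rw [Pi.single_eq_of_ne hji, zero_pow hq, mul_zero]
  · intro h; exact absurd (Finset.mem_univ i) h

/-- the rank one operator `x ↦ h(x, b) a` -/
def rk (q : ℕ) (a b : Fin n → F) : Matrix (Fin n) (Fin n) F :=
  Matrix.vecMulVec a (fun j => (b j) ^ q)

theorem rk_mulVec (a b x : Fin n → F) :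
    rk q a b *ᵥ x = Cfsg.hermForm n F q x b • a := by
  unfold rk
  rw [vecMulVec_mulVec, op_smul_eq_smul]
  congr 1
  unfold Cfsg.hermForm dotProduct
  refine Finset.sum_congr rfl fun i _ => ?_
  rw [mul_comm]

theorem transvection_eq (v : Fin n → F) (c : F) :
    Cfsg.unitaryTransvection n q v c = 1 + c • rk q v v := rfl

theorem hadj_rk (hF : Fintype.card F = q ^ 2) (a b : Fin n → F) :
    hadj q (rk q a b) = rk q b a := by
  ext i j
  rw [hadj_apply]
  unfold rk
  rw [vecMulVec_apply, vecMulVec_apply, mul_pow, pow_q_q hF, mul_comm]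

/-- the Heisenberg-type element -/
def heis (q : ℕ) (v z : Fin n → F) (a b : F) : Matrix (Fin n) (Fin n) F :=
  1 + a • rk q v z - a ^ q • rk q z v + b • rk q v v

theorem heis_mulVec (v z : Fin n → F) (a b : F) (x : Fin n → F) :
    heis q v z a b *ᵥ x = x + (a * Cfsg.hermForm n F q x z) • v
      - (a ^ q * Cfsg.hermForm n F q x v) • z + (b * Cfsg.hermForm n F q x v) • v := by
  unfold heis
  rw [add_mulVec, sub_mulVec, add_mulVec, one_mulVec, smul_mulVec, smul_mulVec, smul_mulVec,
    rk_mulVec, rk_mulVec, rk_mulVec, smul_smul, smul_smul, smul_smul]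

theorem heis_zero (v z : Fin n → F) (hq : q ≠ 0) (c : F) :
    heis q v z 0 c = Cfsg.unitaryTransvection n q v c := by
  rw [transvection_eq]
  unfold heis
  rw [zero_smul, zero_pow hq, zero_smul, add_zero, sub_zero]

section Law

variable (hF : Fintype.card F = q ^ 2) {v z : Fin n → F}
  (hvv : Cfsg.hermForm n F q v v = 0) (hvz : Cfsg.hermForm n F q v z = 0)
  (hzz : Cfsg.hermForm n F q z z = 1)

include hF hvz in
theorem herm_zv : Cfsg.hermForm n F q z v = 0 := by
  have hq : q ≠ 0 := by have := two_le_q hF; omega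
  rw [herm_symm hF v z, hvz, zero_pow hq]

include hF hvv hvz hzz in
theorem heis_mul (a b a' b' : F) :
    heis q v z a b * heis q v z a' b' = heis q v z (a + a') (b + b' - a * a' ^ q) := by
  have hzv := herm_zv hF hvz
  apply Matrix.mulVec_injective
  funext x
  rw [← mulVec_mulVec, heis_mulVec, heis_mulVec, heis_mulVec]
  simp only [herm_add_left, herm_sub_left, herm_smul_left, hvv, hvz, hzz, hzv, mul_zero,
    add_zero, sub_zero, mul_one]
  rw [add_pow_q hF]
  funext i
  simp only [Pi.add_apply, Pi.sub_apply, Pi.smul_apply, smul_eq_mul]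
  ring

include hF hvv hvz hzz in
theorem heis_zero_zero : heis q v z 0 0 = 1 := by
  have hq : q ≠ 0 := by have := two_le_q hF; omega
  unfold heis
  rw [zero_smul, zero_pow hq, zero_smul, zero_smul, add_zero, sub_zero, add_zero]

include hF in
theorem hadj_heis (a b : F) :
    hadj q (heis q v z a b) = heis q v z (-a) (b ^ q) := by
  obtain ⟨φ, hφ⟩ := exists_frobQ hF
  have hneg : (-a) ^ q = -(a ^ q) := by rw [← hφ, ← hφ, map_neg]
  have hsmul : ∀ (c : F) (M : Matrix (Fin n) (Fin n) F), hadj q (c • M) = c ^ q • hadj q M := by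
    intro c M
    ext i j
    rw [hadj_apply, Matrix.smul_apply, Matrix.smul_apply, hadj_apply, smul_eq_mul, smul_eq_mul,
      mul_pow]
  have hsub : ∀ M N : Matrix (Fin n) (Fin n) F, hadj q (M - N) = hadj q M - hadj q N := by
    intro M N
    ext i j
    rw [hadj_apply, Matrix.sub_apply, Matrix.sub_apply, hadj_apply, hadj_apply, sub_pow_q hF]
  unfold heis
  rw [hadj_add hF, hsub, hadj_add hF, hadj_one hF, hsmul, hsmul, hsmul, hadj_rk hF,
    hadj_rk hF, hadj_rk hF, pow_q_q hF, hneg]
  rw [neg_smul, neg_smul]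
  abel

include hF hvv hvz hzz in
/-- unitarity in adjoint form -/
theorem hadj_heis_mul (a b : F) (hb : b + b ^ q + a * a ^ q = 0) :
    hadj q (heis q v z a b) * heis q v z a b = 1 := by
  have hq : q ≠ 0 := by have := two_le_q hF; omega
  rw [hadj_heis hF, heis_mul hF hvv hvz hzz]
  have h1 : b ^ q + b - -a * a ^ q = 0 := by linear_combination hb
  rw [h1, neg_add_cancel]
  exact heis_zero_zero hF hvv hvz hzz

end Law

/-- a matrix with `hadj M * M = 1` preserves the Hermitian form -/
theorem herm_preserved_of_hadj (hF : Fintype.card F = q ^ 2) (M : Matrix (Fin n) (Fin n) F)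
    (h : hadj q M * M = 1) (u w : Fin n → F) :
    Cfsg.hermForm n F q (M *ᵥ u) (M *ᵥ w) = Cfsg.hermForm n F q u w := by
  obtain ⟨φ, hφ⟩ := exists_frobQ hF
  have htr : Mᵀ * M.map φ = 1 := by
    rw [hadj_eq_map hφ] at h
    have := congrArg transpose h
    rwa [transpose_mul, transpose_transpose, transpose_one] at this
  rw [hermForm_mulVec hφ, hermForm_eq hφ, htr, one_mulVec]

/-- unipotent matrices have determinant one -/
theorem det_one_add_of_isNilpotent (N : Matrix (Fin n) (Fin n) F) (hN : IsNilpotent N) :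
    (1 + N).det = 1 := by
  have h1 : (-N).charpoly = Polynomial.X ^ Fintype.card (Fin n) := by
    have := Matrix.isNilpotent_charpoly_sub_pow_of_isNilpotent hN.neg
    exact sub_eq_zero.1 (IsNilpotent.eq_zero this)
  have h2 := Matrix.eval_charpoly (-N) (1 : F)
  rw [h1, Polynomial.eval_pow, Polynomial.eval_X, one_pow, map_one, sub_neg_eq_add] at h2
  exact h2.symm

section Det

variable (hF : Fintype.card F = q ^ 2) {v z : Fin n → F}
  (hvv : Cfsg.hermForm n F q v v = 0) (hvz : Cfsg.hermForm n F q v z = 0)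
  (hzz : Cfsg.hermForm n F q z z = 1)

include hF hvv hvz hzz in
theorem det_heis (a b : F) : (heis q v z a b).det = 1 := by
  have hzv := herm_zv hF hvz
  obtain ⟨N, hN⟩ : ∃ N : Matrix (Fin n) (Fin n) F,
      N = a • rk q v z - a ^ q • rk q z v + b • rk q v v := ⟨_, rfl⟩
  have hNx : ∀ x : Fin n → F, N *ᵥ x = (a * Cfsg.hermForm n F q x z) • v
      - (a ^ q * Cfsg.hermForm n F q x v) • z + (b * Cfsg.hermForm n F q x v) • v := by
    intro x
    rw [hN, add_mulVec, sub_mulVec, smul_mulVec, smul_mulVec, smul_mulVec,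
      rk_mulVec, rk_mulVec, rk_mulVec, smul_smul, smul_smul, smul_smul]
  have hN3 : N ^ 3 = 0 := by
    apply Matrix.mulVec_injective
    funext x
    rw [pow_succ, pow_succ, pow_one, ← mulVec_mulVec, ← mulVec_mulVec, hNx, hNx, hNx]
    simp only [herm_add_left, herm_sub_left, herm_smul_left, hvv, hvz, hzz, hzv, mul_zero,
      add_zero, sub_zero, mul_one, zero_mulVec, zero_smul, zero_sub, mul_neg]
  have h1 : heis q v z a b = 1 + N := by
    rw [hN]; unfold heis; abel
  rw [h1]
  exact det_one_add_of_isNilpotent N ⟨3, hN3⟩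

end Det

end UnitaryHeis
end Cfsg.Agent.Helper43
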