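/-
Helper43 library: the Sylow 2-subgroups of `PSU_3(q)`, `q` even, are parametrised by the
Heisenberg-type elements `u(a, b)` (`HeisGroup.HeisParam`).
-/
import Cfsg.Agent.Helper43.HeisGroup
import Cfsg.Agent.Helper43.UnitaryHeis
import Cfsg.Agent.S0279
import Cfsg.Agent.S0280

set_option autoImplicit false
set_option linter.unusedSectionVars false

namespace Cfsg.Agent.Helper43
namespace SylowSU3

open Matrix NormH90 HermAdj HermOrtho UnitaryHeis HeisGroup

section General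

variable {F : Type*} [Field F] [Fintype F] {q n : ℕ} (hF : Fintype.card F = q ^ 2)
  {v z : Fin n → F} (hvv : Cfsg.hermForm n F q v v = 0) (hvz : Cfsg.hermForm n F q v z = 0)
  (hzz : Cfsg.hermForm n F q z z = 1)

/-- the element `u(a, b)` of `SU_n(q)` -/
def suElt (a b : F) (hab : rel q a b) : ↥(Cfsg.SU n F q) :=
  ⟨⟨heis q v z a b, det_heis hF hvv hvz hzz a b⟩,
    fun x y => herm_preserved_of_hadj hF _ (hadj_heis_mul hF hvv hvz hzz a b hab) x y⟩

theorem suElt_val (a b : F) (hab : rel q a b) :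
    ((suElt hF hvv hvz hzz a b hab : Matrix.SpecialLinearGroup (Fin n) F) :
      Matrix (Fin n) (Fin n) F) = heis q v z a b := rfl

include hF hvz hzz in
theorem heis_inj (hv : v ≠ 0) {a b a' b' : F}
    (h : heis q v z a b = heis q v z a' b') : a = a' ∧ b = b' := by
  have hq : q ≠ 0 := by have := two_le_q hF; omega
  have hzv := herm_zv hF hvz
  have h1 := congrArg (fun M : Matrix (Fin n) (Fin n) F => M *ᵥ z) h
  simp only [heis_mulVec, hzz, hzv, mul_one, mul_zero, zero_smul, sub_zero, add_zero] at h1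
  have ha : a = a' := by
    have h2 : (a - a') • v = 0 := by
      rw [sub_smul, sub_eq_zero]
      exact add_left_cancel h1
    rcases smul_eq_zero.1 h2 with h3 | h3
    · exact sub_eq_zero.1 h3
    · exact absurd h3 hv
  subst ha
  refine ⟨rfl, ?_⟩
  obtain ⟨w, hw⟩ := herm_nondeg hq v hv
  have hwv : Cfsg.hermForm n F q w v ≠ 0 := by
    intro h0
    apply hw
    rw [herm_symm hF w v, h0, zero_pow hq]
  have h4 := congrArg (fun M : Matrix (Fin n) (Fin n) F => M *ᵥ w) h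
  simp only [heis_mulVec] at h4
  have h5 : ((b - b') * Cfsg.hermForm n F q w v) • v = 0 := by
    rw [sub_mul, sub_smul, sub_eq_zero]
    exact add_left_cancel h4
  rcases smul_eq_zero.1 h5 with h6 | h6
  · rcases mul_eq_zero.1 h6 with h7 | h7
    · exact sub_eq_zero.1 h7
    · exact absurd h7 hwv
  · exact absurd h6 hv

/-- the subgroup of all `u(a, b)` -/
def heisSubgroup : Subgroup ↥(Cfsg.SU n F q) where
  carrier := {g | ∃ a b : F, rel q a b ∧
    ((g : Matrix.SpecialLinearGroup (Fin n) F) : Matrix (Fin n) (Fin n) F) = heis q v z a b}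
  mul_mem' := by
    rintro x y ⟨a, b, hab, hx⟩ ⟨a', b', hab', hy⟩
    refine ⟨a + a', b + b' - a * a' ^ q, rel_mul hF hab hab', ?_⟩
    show ((x : Matrix.SpecialLinearGroup (Fin n) F) : Matrix (Fin n) (Fin n) F) *
      ((y : Matrix.SpecialLinearGroup (Fin n) F) : Matrix (Fin n) (Fin n) F) = _
    rw [hx, hy, heis_mul hF hvv hvz hzz]
  one_mem' := ⟨0, 0, rel_zero hF, (heis_zero_zero hF hvv hvz hzz).symm⟩
  inv_mem' := by
    rintro x ⟨a, b, hab, hx⟩
    have hab' : rel q (-a) (b ^ q) := by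
      unfold rel at *
      rw [pow_q_q hF, neg_pow_q hF]
      linear_combination hab
    have hmul : suElt hF hvv hvz hzz (-a) (b ^ q) hab' * x = 1 := by
      apply Subtype.ext
      apply Subtype.ext
      show heis q v z (-a) (b ^ q) *
        ((x : Matrix.SpecialLinearGroup (Fin n) F) : Matrix (Fin n) (Fin n) F) = 1
      rw [hx, ← hadj_heis hF]
      exact hadj_heis_mul hF hvv hvz hzz a b hab
    have hinv : x⁻¹ = suElt hF hvv hvz hzz (-a) (b ^ q) hab' :=
      (eq_inv_of_mul_eq_one_left hmul).symm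
    exact ⟨-a, b ^ q, hab', by rw [hinv]; rfl⟩

open Classical in
/-- the parametrisation of the subgroup -/
noncomputable def heisParam (hv : v ≠ 0) : HeisParam F q ↥(heisSubgroup hF hvv hvz hzz) where
  u := fun a b => if h : rel q a b then ⟨suElt hF hvv hvz hzz a b h, ⟨a, b, h, rfl⟩⟩ else 1
  mul := by
    intro a b a' b' hab hab'
    rw [dif_pos hab, dif_pos hab', dif_pos (rel_mul hF hab hab')]
    apply Subtype.ext
    apply Subtype.ext
    apply Subtype.ext
    show heis q v z a b * heis q v z a' b' = heis q v z (a + a') (b + b' - a * a' ^ q)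
    exact heis_mul hF hvv hvz hzz a b a' b'
  inj := by
    intro a b a' b' hab hab' h
    rw [dif_pos hab, dif_pos hab'] at h
    have h1 : heis q v z a b = heis q v z a' b' := by
      have := congrArg (fun x : ↥(heisSubgroup hF hvv hvz hzz) =>
        (((x : ↥(Cfsg.SU n F q)) : Matrix.SpecialLinearGroup (Fin n) F) :
          Matrix (Fin n) (Fin n) F)) h
      exact this
    exact heis_inj hF hvz hzz hv h1
  surj := by
    rintro ⟨x, a, b, hab, hx⟩
    refine ⟨a, b, hab, ?_⟩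
    rw [dif_pos hab]
    apply Subtype.ext
    apply Subtype.ext
    apply Subtype.ext
    exact hx.symm

end General

section Three

variable {F : Type*} [Field F] [Fintype F] {q : ℕ} (hF : Fintype.card F = q ^ 2) [CharP F 2]

include hF in
theorem std_vv : Cfsg.hermForm 3 F q ![1, 1, 0] ![1, 1, 0] = 0 := by
  have hq : q ≠ 0 := by have := two_le_q hF; omega
  unfold Cfsg.hermForm
  rw [Fin.sum_univ_three]
  simp [hq]
  exact CharTwo.add_self_eq_zero 1

include hF in
theorem std_vz : Cfsg.hermForm 3 F q ![1, 1, 0] ![0, 0, 1] = 0 := by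
  have hq : q ≠ 0 := by have := two_le_q hF; omega
  unfold Cfsg.hermForm
  rw [Fin.sum_univ_three]
  simp [hq]

include hF in
theorem std_zz : Cfsg.hermForm 3 F q ![0, 0, 1] ![0, 0, 1] = 1 := by
  have hq : q ≠ 0 := by have := two_le_q hF; omega
  unfold Cfsg.hermForm
  rw [Fin.sum_univ_three]
  simp [hq]

theorem std_v_ne : (![1, 1, 0] : Fin 3 → F) ≠ 0 := by
  intro h
  have := congrFun h 0
  simp at this

include hF in
/-- every Sylow 2-subgroup of `PSU_3(q)`, `q = 2 ^ k`, has a Heisenberg parametrisation -/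
theorem exists_param_sylow {k : ℕ} (hk : 1 ≤ k) (hqk : q = 2 ^ k)
    (S : Sylow 2 (Cfsg.PSU 3 F q)) :
    Nonempty (HeisParam F q ↥(S : Subgroup (Cfsg.PSU 3 F q))) := by
  classical
  have hq : q ≠ 0 := by have := two_le_q hF; omega
  have hqe : Even q := by
    rw [hqk]
    exact (Nat.even_pow' (by omega)).2 even_two
  obtain ⟨P₀, hP₀⟩ : ∃ P₀ : Subgroup ↥(Cfsg.SU 3 F q),
      P₀ = heisSubgroup hF (std_vv hF) (std_vz hF) (std_zz hF) := ⟨_, rfl⟩
  have H₀ : HeisParam F q ↥P₀ := by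
    rw [hP₀]
    exact heisParam hF (std_vv hF) (std_vz hF) (std_zz hF) std_v_ne
  have hcard₀ : Nat.card ↥P₀ = q ^ 3 := card_eq hF H₀
  -- the centre meets `P₀` trivially
  have hZ : Nat.card (Subgroup.center ↥(Cfsg.SU 3 F q)) = Nat.gcd 3 (q + 1) :=
    Cfsg.Agent.S0279.result hF 3 le_rfl
  have hgodd : Odd (Nat.gcd 3 (q + 1)) :=
    Odd.of_dvd_nat (by decide) (Nat.gcd_dvd_left 3 (q + 1))
  have hq3 : q ^ 3 = 2 ^ (k * 3) := by rw [hqk, ← pow_mul]
  have hinf : P₀ ⊓ Subgroup.center ↥(Cfsg.SU 3 F q) = ⊥ := by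
    apply disjoint_iff.1
    apply Subgroup.disjoint_of_coprime_natCard
    rw [hcard₀, hZ, hq3]
    exact Nat.Coprime.pow_left _ (Nat.coprime_two_left.2 hgodd)
  obtain ⟨f, hf⟩ : ∃ f : ↥P₀ →* Cfsg.PSU 3 F q,
      f = (QuotientGroup.mk' (Subgroup.center ↥(Cfsg.SU 3 F q))).comp P₀.subtype := ⟨_, rfl⟩
  have hfinj : Function.Injective f := by
    rw [injective_iff_map_eq_one]
    intro x hx
    rw [hf, MonoidHom.comp_apply, QuotientGroup.mk'_apply, QuotientGroup.eq_one_iff] at hx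
    have h1 : (x : ↥(Cfsg.SU 3 F q)) ∈ P₀ ⊓ Subgroup.center ↥(Cfsg.SU 3 F q) := ⟨x.2, hx⟩
    rw [hinf, Subgroup.mem_bot] at h1
    exact Subtype.ext h1
  have e₁ : ↥P₀ ≃* ↥f.range := MonoidHom.ofInjective hfinj
  have hcard₁ : Nat.card ↥f.range = q ^ 3 := by
    rw [← Nat.card_congr e₁.toEquiv, hcard₀]
  -- the order of `PSU_3(q)`
  have hord := Cfsg.Agent.S0280.result hF 3 (by norm_num)
  have hprod : ∏ i ∈ Finset.range 3, (if Even i then q ^ (i + 1) + 1 else q ^ (i + 1) - 1)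
      = (q + 1) * (q ^ 2 - 1) * (q ^ 3 + 1) := by
    rw [Finset.prod_range_succ, Finset.prod_range_succ, Finset.prod_range_one]
    have h1 : ¬ Even 1 := by decide
    have h2 : Even 2 := by decide
    have h0 : Even 0 := by decide
    rw [if_pos h0, if_neg h1, if_pos h2]
    norm_num
  rw [hprod] at hord
  have hexp : 3 * (3 - 1) / 2 = 3 := by norm_num
  rw [hexp] at hord
  have ho1 : Odd (q + 1) := hqe.add_one
  have ho2 : Odd (q ^ 2 - 1) := by
    have h1 : 1 ≤ q ^ 2 := Nat.one_le_pow _ _ (Nat.pos_of_ne_zero hq)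
    exact Nat.Even.sub_odd h1 ((Nat.even_pow' (by norm_num)).2 hqe) odd_one
  have ho3 : Odd (q ^ 3 + 1) := ((Nat.even_pow' (by norm_num)).2 hqe).add_one
  have hdvd : q ^ 3 ∣ Nat.card (Cfsg.PSU 3 F q) := by
    have h1 : q ^ 3 ∣ (Nat.gcd 3 (q + 1) * (q + 1)) * Nat.card (Cfsg.PSU 3 F q) := by
      rw [mul_assoc, hord]
      exact Dvd.intro _ rfl
    have h2 : Nat.Coprime (q ^ 3) (Nat.gcd 3 (q + 1) * (q + 1)) := by
      rw [hq3]
      exact Nat.Coprime.pow_left _ (Nat.coprime_two_left.2 (hgodd.mul ho1))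
    exact h2.dvd_of_dvd_mul_left h1
  obtain ⟨m, hm⟩ := hdvd
  have hmodd : Odd m := by
    have h1 : q ^ 3 * (Nat.gcd 3 (q + 1) * (q + 1) * m) =
        q ^ 3 * ((q + 1) * (q ^ 2 - 1) * (q ^ 3 + 1)) := by
      rw [← hord, hm]; ring
    have h2 := Nat.eq_of_mul_eq_mul_left (Nat.pos_of_ne_zero (pow_ne_zero 3 hq)) h1
    have h3 : Odd (Nat.gcd 3 (q + 1) * (q + 1) * m) := by
      rw [h2]; exact (ho1.mul ho2).mul ho3
    exact (Nat.odd_mul.1 h3).2
  have hm0 : m ≠ 0 := by
    rintro rfl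
    exact (Nat.not_odd_iff_even.2 (by decide : Even 0)) hmodd
  have hfact : (Nat.card (Cfsg.PSU 3 F q)).factorization 2 = k * 3 := by
    rw [hm, hq3, Nat.factorization_mul (pow_ne_zero _ (by norm_num)) hm0,
      Nat.Prime.factorization_pow Nat.prime_two, Finsupp.add_apply, Finsupp.single_eq_same,
      Nat.factorization_eq_zero_of_not_dvd (fun h => (Nat.not_even_iff_odd.2 hmodd)
        (even_iff_two_dvd.2 h)), add_zero]
  have hcard₁' : Nat.card ↥f.range = 2 ^ (Nat.card (Cfsg.PSU 3 F q)).factorization 2 := by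
    rw [hcard₁, hfact, hq3]
  obtain ⟨S₁, hS₁⟩ : ∃ S₁ : Sylow 2 (Cfsg.PSU 3 F q),
      (S₁ : Subgroup (Cfsg.PSU 3 F q)) = f.range := ⟨Sylow.ofCard f.range hcard₁', rfl⟩
  obtain ⟨g, hg⟩ := MulAction.exists_smul_eq (Cfsg.PSU 3 F q) S₁ S
  have e₂ : ↥f.range ≃* ↥(S₁ : Subgroup (Cfsg.PSU 3 F q)) := MulEquiv.subgroupCongr hS₁.symm
  have e₃ : ↥(S₁ : Subgroup (Cfsg.PSU 3 F q)) ≃* ↥((g • S₁ : Sylow 2 (Cfsg.PSU 3 F q)) :
      Subgroup (Cfsg.PSU 3 F q)) := Sylow.equivSMul S₁ g
  subst hg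
  exact ⟨((H₀.map e₁).map e₂).map e₃⟩

end Three

end SylowSU3
end Cfsg.Agent.Helper43
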