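/-
Helper43 library: the Sylow 2-subgroups of `SU_3(q)`, `q` even, are parametrised by the
Heisenberg-type elements `u(a, b)` (`HeisGroup.HeisParam`) (the analogue of
`SylowSU3.exists_param_sylow` for `SU` instead of `PSU`).
-/
import Cfsg.Agent.Helper43.SylowSU3

set_option autoImplicit false
set_option linter.unusedSectionVars false

namespace Cfsg.Agent.Helper43
namespace SylowSU3

open Matrix NormH90 HermAdj HermOrtho UnitaryHeis HeisGroup

section ThreeSU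

variable {F : Type*} [Field F] [Fintype F] {q : ℕ} (hF : Fintype.card F = q ^ 2) [CharP F 2]

include hF in
/-- every Sylow 2-subgroup of `SU_3(q)`, `q = 2 ^ k`, has a Heisenberg parametrisation -/
theorem exists_param_sylow_su {k : ℕ} (hk : 1 ≤ k) (hqk : q = 2 ^ k)
    (S : Sylow 2 ↥(Cfsg.SU 3 F q)) :
    Nonempty (HeisParam F q ↥(S : Subgroup ↥(Cfsg.SU 3 F q))) := by
  classical
  have hq : q ≠ 0 := by have := two_le_q hF; omega
  have hqe : Even q := by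
    rw [hqk]
    exact (Nat.even_pow' (by omega)).2 even_two
  obtain ⟨P₀, hP₀⟩ : ∃ P₀ : Subgroup ↥(Cfsg.SU 3 F q),
      P₀ = heisSubgroup hF (std_vv hF) (std_vz hF) (std_zz hF) := ⟨_, rfl⟩
  have H₀ : HeisParam F q ↥P₀ := by
    rw [hP₀]
    exact heisParam hF (std_vv hF) (std_vz hF) (std_zz hF) std_v_ne
  have hcard₀ : Nat.card ↥P₀ = q ^ 3 := card_eq hF H₀
  have hq3 : q ^ 3 = 2 ^ (k * 3) := by rw [hqk, ← pow_mul]
  -- the order of `SU_3(q)`
  have hord := Cfsg.Agent.Helper5.card_SU_mul (n := 3) hF (by norm_num)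
  rw [Cfsg.Agent.Helper5.card_GU hF 3] at hord
  have hprod : ∏ i ∈ Finset.range 3, (if Even i then q ^ (i + 1) + 1 else q ^ (i + 1) - 1)
      = (q + 1) * (q ^ 2 - 1) * (q ^ 3 + 1) := by
    rw [Finset.prod_range_succ, Finset.prod_range_succ, Finset.prod_range_one]
    have h1 : ¬ Even 1 := by decide
    have h2 : Even 2 := by decide
    have h0 : Even 0 := by decide
    rw [if_pos h0, if_neg h1, if_pos h2]
    norm_num
  rw [hprod] at hord
  have hexp : 3 * (3 - 1) / 2 = 3 := by norm_num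
  rw [hexp] at hord
  have ho1 : Odd (q + 1) := hqe.add_one
  have ho2 : Odd (q ^ 2 - 1) := by
    have h1 : 1 ≤ q ^ 2 := Nat.one_le_pow _ _ (Nat.pos_of_ne_zero hq)
    exact Nat.Even.sub_odd h1 ((Nat.even_pow' (by norm_num)).2 hqe) odd_one
  have ho3 : Odd (q ^ 3 + 1) := ((Nat.even_pow' (by norm_num)).2 hqe).add_one
  have hdvd : q ^ 3 ∣ Nat.card ↥(Cfsg.SU 3 F q) := by
    have h1 : q ^ 3 ∣ (q + 1) * Nat.card ↥(Cfsg.SU 3 F q) := by
      rw [hord]
      exact Dvd.intro _ rfl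
    have h2 : Nat.Coprime (q ^ 3) (q + 1) := by
      rw [hq3]
      exact Nat.Coprime.pow_left _ (Nat.coprime_two_left.2 ho1)
    exact h2.dvd_of_dvd_mul_left h1
  obtain ⟨m, hm⟩ := hdvd
  have hmodd : Odd m := by
    have h1 : q ^ 3 * ((q + 1) * m) = q ^ 3 * ((q + 1) * (q ^ 2 - 1) * (q ^ 3 + 1)) := by
      rw [← hord, hm]; ring
    have h2 := Nat.eq_of_mul_eq_mul_left (Nat.pos_of_ne_zero (pow_ne_zero 3 hq)) h1
    have h3 : Odd ((q + 1) * m) := by
      rw [h2]; exact (ho1.mul ho2).mul ho3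
    exact (Nat.odd_mul.1 h3).2
  have hm0 : m ≠ 0 := by
    rintro rfl
    exact (Nat.not_odd_iff_even.2 (by decide : Even 0)) hmodd
  have hfact : (Nat.card ↥(Cfsg.SU 3 F q)).factorization 2 = k * 3 := by
    rw [hm, hq3, Nat.factorization_mul (pow_ne_zero _ (by norm_num)) hm0,
      Nat.Prime.factorization_pow Nat.prime_two, Finsupp.add_apply, Finsupp.single_eq_same,
      Nat.factorization_eq_zero_of_not_dvd (fun h => (Nat.not_even_iff_odd.2 hmodd)
        (even_iff_two_dvd.2 h)), add_zero]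
  have hcard₁' : Nat.card ↥P₀ = 2 ^ (Nat.card ↥(Cfsg.SU 3 F q)).factorization 2 := by
    rw [hcard₀, hfact, hq3]
  obtain ⟨S₁, hS₁⟩ : ∃ S₁ : Sylow 2 ↥(Cfsg.SU 3 F q),
      (S₁ : Subgroup ↥(Cfsg.SU 3 F q)) = P₀ := ⟨Sylow.ofCard P₀ hcard₁', rfl⟩
  obtain ⟨g, hg⟩ := MulAction.exists_smul_eq ↥(Cfsg.SU 3 F q) S₁ S
  have e₂ : ↥P₀ ≃* ↥(S₁ : Subgroup ↥(Cfsg.SU 3 F q)) := MulEquiv.subgroupCongr hS₁.symm
  have e₃ : ↥(S₁ : Subgroup ↥(Cfsg.SU 3 F q)) ≃* ↥((g • S₁ : Sylow 2 ↥(Cfsg.SU 3 F q)) :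
      Subgroup ↥(Cfsg.SU 3 F q)) := Sylow.equivSMul S₁ g
  subst hg
  exact ⟨(H₀.map e₂).map e₃⟩

end ThreeSU

end SylowSU3
end Cfsg.Agent.Helper43
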